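import Cfsg.Agent.H395.FR.Fix

/-!
# S2452, `F₄(q)`, box (D1), abstract part (helper120)

`Q` a group with `Q' ≤ Z ≤ Z(Q)`, `g` normalises `Q` and `Z` and acts without fixed points on `Z`:

* `moved_comm` : `B = {g⁻¹ x g x⁻¹ | x ∈ Q}` is a subgroup of `Q`, `|B| = |Q : C_Q(g)|`, normalised by `g`, and `g b` is
  conjugate to `g` for all `b ∈ B`;
* `bound_moved` : if `q ≤ |Z|`, `q |Z| ≤ |Q|`, `q |C_Q(x)| ≤ |Q|` for `x ∈ Q - Z` and `‖χ x‖ ≤ r χ(1)` for `1 ≠ x ∈ Q`, then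
  `‖χ g‖ ≤ (r + q⁻²) χ(1)`.
-/

set_option autoImplicit false

namespace Cfsg.Agent.H120.FR

open Module Subgroup
open Cfsg.Agent.H572.FR (fx cd mem_fx)
open Cfsg.Agent.H395.FR
open Cfsg.Agent.SmallSimple.BTBasic

variable {G : Type*} [Group G] [Finite G]

section Comm

variable {Q Z : Subgroup G} (hZQ : Z ≤ Q) (hZc : ∀ z ∈ Z, ∀ x ∈ Q, z * x = x * z)
  (hQZ : ∀ x ∈ Q, ∀ y ∈ Q, x * y * x⁻¹ * y⁻¹ ∈ Z) {g : G} (hgQ : g ∈ normalizer (Q : Set G))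
  (hgZ : ∀ z ∈ Z, g⁻¹ * z * g ∈ Z) (hfix : ∀ z ∈ Z, g * z = z * g → z = 1)

include hgZ hfix in
/-- every element of `Z` is `g⁻¹ w g w⁻¹` -/
theorem exists_w {z : G} (hz : z ∈ Z) : ∃ w ∈ Z, g⁻¹ * w * g * w⁻¹ = z := by
  have hmem : ∀ w : Z, g⁻¹ * (w : G) * g * (w : G)⁻¹ ∈ Z := fun w => Z.mul_mem (hgZ w w.2) (Z.inv_mem w.2)
  have hinj : Function.Injective (fun w : Z => (⟨g⁻¹ * (w : G) * g * (w : G)⁻¹, hmem w⟩ : Z)) := by
    intro a b h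
    have h1 : g⁻¹ * (a : G) * g * (a : G)⁻¹ = g⁻¹ * (b : G) * g * (b : G)⁻¹ := congrArg Subtype.val h
    have h2 : g⁻¹ * ((b : G)⁻¹ * (a : G)) * g = (b : G)⁻¹ * (a : G) := by
      have h3 : (g⁻¹ * (b : G) * g)⁻¹ * (g⁻¹ * (a : G) * g) = (b : G)⁻¹ * (a : G) := by
        have h4 : g⁻¹ * (a : G) * g = g⁻¹ * (b : G) * g * (b : G)⁻¹ * (a : G) := by rw [← h1]; group
        rw [h4]
        group
      calc g⁻¹ * ((b : G)⁻¹ * (a : G)) * g = (g⁻¹ * (b : G) * g)⁻¹ * (g⁻¹ * (a : G) * g) := by group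
        _ = _ := h3
    have h5 : (b : G)⁻¹ * (a : G) = 1 := by
      apply hfix _ (Z.mul_mem (Z.inv_mem b.2) a.2)
      calc g * ((b : G)⁻¹ * (a : G)) = g * (g⁻¹ * ((b : G)⁻¹ * (a : G)) * g) := by rw [h2]
        _ = _ := by group
    exact Subtype.ext (inv_mul_eq_one.1 h5).symm
  obtain ⟨w, hw⟩ := (Finite.injective_iff_surjective.1 hinj) ⟨z, hz⟩
  exact ⟨w, w.2, congrArg Subtype.val hw⟩

include hZQ hZc hQZ hgQ hgZ hfix in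
/-- **the commutators** -/
theorem moved_comm : ∃ B : Subgroup G, B ≤ Q ∧ (∀ b, b ∈ B ↔ ∃ x ∈ Q, b = g⁻¹ * x * g * x⁻¹) := by
  have hgQ' : ∀ x ∈ Q, g⁻¹ * x * g ∈ Q := fun x hx => by
    have h1 := (mem_normalizer_iff.1 ((normalizer (Q : Set G)).inv_mem hgQ) x).1 hx
    rwa [inv_inv] at h1
  -- closed under multiplication by `Z`
  have hmulZ : ∀ x ∈ Q, ∀ z ∈ Z, ∃ y ∈ Q, g⁻¹ * x * g * x⁻¹ * z = g⁻¹ * y * g * y⁻¹ := by
    intro x hx z hz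
    obtain ⟨w, hw, rfl⟩ := exists_w hgZ hfix hz
    refine ⟨x * w, Q.mul_mem hx (hZQ hw), ?_⟩
    have h1 : (g⁻¹ * w * g) * w⁻¹ ∈ Z := Z.mul_mem (hgZ w hw) (Z.inv_mem hw)
    have h2 : g⁻¹ * x * g * x⁻¹ * (g⁻¹ * w * g * w⁻¹) = g⁻¹ * x * g * ((g⁻¹ * w * g * w⁻¹) * x⁻¹) := by
      rw [mul_assoc (g⁻¹ * x * g), ← hZc _ h1 _ (Q.inv_mem hx)]
    rw [h2]
    group
  refine ⟨{ carrier := {b | ∃ x ∈ Q, b = g⁻¹ * x * g * x⁻¹}
            one_mem' := ⟨1, Q.one_mem, by group⟩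
            mul_mem' := ?_
            inv_mem' := ?_ }, ?_, fun b => Iff.rfl⟩
  · rintro _ _ ⟨x, hx, rfl⟩ ⟨y, hy, rfl⟩
    -- `φ(x) φ(y) = φ(x y) ζ`
    have hφy : g⁻¹ * y * g * y⁻¹ ∈ Q := Q.mul_mem (hgQ' y hy) (Q.inv_mem hy)
    have h1 := hQZ x⁻¹ (Q.inv_mem hx) (g⁻¹ * y * g * y⁻¹) hφy
    obtain ⟨w, hw, e⟩ := hmulZ (x * y) (Q.mul_mem hx hy) _ h1
    refine ⟨w, hw, ?_⟩
    rw [← e]
    have h2 : g⁻¹ * (x * y) * g * (x * y)⁻¹ = g⁻¹ * x * g * (g⁻¹ * y * g * y⁻¹) * x⁻¹ := by group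
    rw [h2]
    set c := g⁻¹ * y * g * y⁻¹ with hc
    set d := x⁻¹ * c * x⁻¹⁻¹ * c⁻¹ with hd
    -- `x⁻¹ d = d x⁻¹`
    have h5 : d * x⁻¹ = x⁻¹ * d := hZc _ h1 _ (Q.inv_mem hx)
    have h6 : g⁻¹ * x * g * c * x⁻¹ * d = g⁻¹ * x * g * c * (d * x⁻¹) := by rw [h5]; group
    have h7 : d * c = c * d := hZc _ h1 _ hφy
    have h8 : g⁻¹ * x * g * c * (d * x⁻¹) = g⁻¹ * x * g * (d * c) * x⁻¹ := by rw [h7]; group
    rw [h6, h8]
    have h9 : d * c = x⁻¹ * c * x := by rw [hd]; group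
    rw [h9]
    group
  · rintro _ ⟨x, hx, rfl⟩
    have hφx : g⁻¹ * x * g * x⁻¹ ∈ Q := Q.mul_mem (hgQ' x hx) (Q.inv_mem hx)
    -- `φ(x)⁻¹ = φ(x⁻¹) ζ`
    have hgx := hgQ' x hx
    have h1 := hQZ (x * (g⁻¹ * x * g)⁻¹) (Q.mul_mem hx (Q.inv_mem hgx)) x⁻¹ (Q.inv_mem hx)
    obtain ⟨w, hw, e⟩ := hmulZ x⁻¹ (Q.inv_mem hx) _ (hQZ x hx (g⁻¹ * x * g)⁻¹ (Q.inv_mem hgx))
    refine ⟨w, hw, ?_⟩
    rw [← e]
    have h2 := hZc _ (hQZ x hx (g⁻¹ * x * g)⁻¹ (Q.inv_mem hgx)) _ hx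
    set u := g⁻¹ * x * g with hu
    have h3 : g⁻¹ * x⁻¹ * g = u⁻¹ := by rw [hu]; group
    rw [h3, inv_inv]
    have h4 : x * u⁻¹ * x⁻¹ * u⁻¹⁻¹ * (u⁻¹ * x) = (u⁻¹ * x) * (x * u⁻¹ * x⁻¹ * u⁻¹⁻¹) :=
      hZc _ (hQZ x hx u⁻¹ (Q.inv_mem hgx)) _ (Q.mul_mem (Q.inv_mem hgx) hx)
    rw [← h4]
    group
  · rintro _ ⟨x, hx, rfl⟩
    exact Q.mul_mem (hgQ' x hx) (Q.inv_mem hx)

end Comm

variable {V : Type*} [AddCommGroup V] [Module ℂ V] [FiniteDimensional ℂ V] (ρ : Representation ℂ G V)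

/-- `g b` conjugate to `g` for all `b ∈ B` -/
theorem norm_le_cd' {B : Subgroup G} {g : G} (hB : ∀ b ∈ B, g * b * g⁻¹ ∈ B) (hc : ∀ b ∈ B, IsConj g (g * b)) :
    ‖ρ.character g‖ ≤ cd ρ B := by
  have := Fintype.ofFinite B
  refine (norm_character_le_fixd_rep B ρ g hB hc).trans ?_
  rw [fixd_def, ← card_mul_cd, ← mul_assoc, inv_mul_cancel₀ (by exact_mod_cast Nat.card_pos.ne'), one_mul,
    Complex.norm_natCast]

/-- **(D1)** -/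
theorem bound_moved {Q Z : Subgroup G} (hZQ : Z ≤ Q) (hZc : ∀ z ∈ Z, ∀ x ∈ Q, z * x = x * z)
    (hQZ : ∀ x ∈ Q, ∀ y ∈ Q, x * y * x⁻¹ * y⁻¹ ∈ Z) {g : G} (hgQ : g ∈ normalizer (Q : Set G))
    (hgZ : ∀ z ∈ Z, g⁻¹ * z * g ∈ Z) (hfix : ∀ z ∈ Z, g * z = z * g → z = 1) {q : ℕ} (hq0 : 0 < q)
    (hq : q ≤ Nat.card Z) (hQq : q * Nat.card Z ≤ Nat.card Q)
    (hnd : ∀ x ∈ Q, x ∉ Z → q * Nat.card ↥(Q ⊓ centralizer {x}) ≤ Nat.card Q) {r : ℝ} (hr : 0 ≤ r)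
    (h : ∀ x ∈ Q, x ≠ 1 → ‖ρ.character x‖ ≤ r * finrank ℂ V) :
    ‖ρ.character g‖ ≤ (r + ((q : ℝ) ^ 2)⁻¹) * finrank ℂ V := by
  obtain ⟨B, hBQ, hB⟩ := moved_comm hZQ hZc hQZ hgQ hgZ hfix
  have hgQ1 : ∀ x ∈ Q, g * x * g⁻¹ ∈ Q := fun x hx => (mem_normalizer_iff.1 hgQ x).1 hx
  have h1 : ‖ρ.character g‖ ≤ cd ρ B := by
    refine norm_le_cd' ρ (fun b hb => ?_) (fun b hb => ?_)
    · obtain ⟨x, hx, rfl⟩ := (hB b).1 hb
      refine (hB _).2 ⟨g * x * g⁻¹, hgQ1 x hx, ?_⟩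
      group
    · obtain ⟨x, hx, rfl⟩ := (hB b).1 hb
      rw [isConj_iff]
      refine ⟨x, ?_⟩
      group
  have h2 := cd_le (ρ := ρ) (B := B) (r := r) (fun b hb hb1 => h b (hBQ hb) hb1) hr
  refine h1.trans (h2.trans ?_)
  -- `|Q| = |B| |D|`
  obtain ⟨D, hD⟩ : ∃ D : Subgroup G, D = Q ⊓ centralizer {g} := ⟨_, rfl⟩
  have hcard : Nat.card Q ≤ Nat.card B * Nat.card D := by
    have hmem : ∀ x : Q, g⁻¹ * (x : G) * g * (x : G)⁻¹ ∈ B := fun x => (hB _).2 ⟨x, x.2, rfl⟩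
    let φ : Q → B := fun x => ⟨g⁻¹ * (x : G) * g * (x : G)⁻¹, hmem x⟩
    -- choose a section
    have hsurj : ∀ b : B, ∃ x : Q, φ x = b := by
      rintro ⟨b, hb⟩
      obtain ⟨x, hx, rfl⟩ := (hB b).1 hb
      exact ⟨⟨x, hx⟩, rfl⟩
    choose s hs using hsurj
    have hD' : ∀ x : Q, ((s (φ x) : Q) : G)⁻¹ * (x : G) ∈ D := by
      intro x
      have h3 : g⁻¹ * ((s (φ x) : Q) : G) * g * ((s (φ x) : Q) : G)⁻¹ = g⁻¹ * (x : G) * g * (x : G)⁻¹ :=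
        congrArg Subtype.val (hs (φ x))
      rw [hD]
      refine ⟨Q.mul_mem (Q.inv_mem (s (φ x)).2) x.2, ?_⟩
      show ((s (φ x) : Q) : G)⁻¹ * (x : G) ∈ centralizer {g}
      rw [mem_centralizer_singleton_iff]
      set y := ((s (φ x) : Q) : G) with hy
      have h4 : g⁻¹ * (x : G) * g = g⁻¹ * y * g * y⁻¹ * (x : G) := by rw [h3]; group
      have h5 : g * (y⁻¹ * (x : G)) = y⁻¹ * (x : G) * g := by
        have h6 : y⁻¹ * (x : G) * g = g * ((g⁻¹ * y * g)⁻¹ * (g⁻¹ * (x : G) * g)) := by group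
        rw [h6, h4]
        group
      first
        | exact h5
        | exact h5.symm
    have hinj : Function.Injective (fun x : Q => ((φ x, ⟨_, hD' x⟩) : B × D)) := by
      intro a b hab
      have h3 : φ a = φ b := congrArg Prod.fst hab
      have h4 : ((s (φ a) : Q) : G)⁻¹ * (a : G) = ((s (φ b) : Q) : G)⁻¹ * (b : G) :=
        congrArg Subtype.val (congrArg Prod.snd hab)
      rw [h3] at h4
      exact Subtype.ext (mul_left_cancel h4)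
    have h3 := Nat.card_le_card_of_injective _ hinj
    rwa [Nat.card_prod] at h3
  -- `D ∩ Z = 1`, `D` abelian
  have hDZ : ∀ x ∈ D, x ∈ Z → x = 1 := by
    intro x hx hxZ
    rw [hD] at hx
    have h3 : x ∈ centralizer {g} := hx.2
    rw [mem_centralizer_singleton_iff] at h3
    apply hfix x hxZ
    first
      | exact h3
      | exact h3.symm
  have hDQ : ∀ x ∈ D, x ∈ Q := fun x hx => by rw [hD] at hx; exact hx.1
  have hDab : ∀ x ∈ D, ∀ y ∈ D, x * y = y * x := by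
    intro x hx y hy
    have h3 : x * y * x⁻¹ * y⁻¹ = 1 :=
      hDZ _ (D.mul_mem (D.mul_mem (D.mul_mem hx hy) (D.inv_mem hx)) (D.inv_mem hy)) (hQZ x (hDQ x hx) y (hDQ y hy))
    calc x * y = (x * y * x⁻¹ * y⁻¹) * y * x := by group
      _ = y * x := by rw [h3, one_mul]
  have hDle : q * (Nat.card D * Nat.card Z) ≤ Nat.card Q := by
    by_cases hD1 : D = ⊥
    · rw [hD1, Subgroup.card_bot, one_mul]
      exact hQq
    · obtain ⟨x, hx, hx1⟩ : ∃ x : G, x ∈ D ∧ x ≠ 1 := by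
        by_contra hne
        push Not at hne
        exact hD1 ((Subgroup.eq_bot_iff_forall D).2 hne)
      have hxZ : x ∉ Z := fun h3 => hx1 (hDZ _ hx h3)
      have h4 := hnd x (hDQ _ hx) hxZ
      refine le_trans ?_ h4
      refine Nat.mul_le_mul_left q ?_
      -- `D × Z → C_Q(x)`
      have hm : ∀ p : D × Z, (p.1 : G) * (p.2 : G) ∈ Q ⊓ centralizer {(x : G)} := by
        rintro ⟨⟨d, hd⟩, ⟨z, hz⟩⟩
        refine ⟨Q.mul_mem (hDQ d hd) (hZQ hz), ?_⟩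
        show d * z ∈ centralizer {x}
        rw [mem_centralizer_singleton_iff]
        have h5 : d * z * x = x * (d * z) := by
          rw [mul_assoc, hZc z hz x (hDQ _ hx), ← mul_assoc, hDab d hd x hx, mul_assoc]
        first
          | exact h5
          | exact h5.symm
      rw [← Nat.card_prod]
      refine Nat.card_le_card_of_injective (fun p : D × Z => (⟨_, hm p⟩ : ↥(Q ⊓ centralizer {(x : G)}))) ?_
      rintro ⟨⟨d, hd⟩, ⟨z, hz⟩⟩ ⟨⟨d', hd'⟩, ⟨z', hz'⟩⟩ hab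
      have h5 : d * z = d' * z' := congrArg Subtype.val hab
      have h6 : d'⁻¹ * d = z' * z⁻¹ := by
        rw [inv_mul_eq_iff_eq_mul, ← mul_assoc, ← h5, mul_assoc, mul_inv_cancel, mul_one]
      have h7 : d'⁻¹ * d = 1 := hDZ _ (D.mul_mem (D.inv_mem hd') hd) (by rw [h6]; exact Z.mul_mem hz' (Z.inv_mem hz))
      have h8 : d = d' := (inv_mul_eq_one.1 h7).symm
      subst h8
      have h9 : z = z' := mul_left_cancel h5
      subst h9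
      rfl
  have hBq : q ^ 2 ≤ Nat.card B := by
    have hDpos : 0 < Nat.card D := Nat.card_pos
    have h3 : q * (Nat.card D * q) ≤ Nat.card B * Nat.card D :=
      (Nat.mul_le_mul_left q (Nat.mul_le_mul_left _ hq)).trans (hDle.trans hcard)
    have h4 : Nat.card D * q ^ 2 ≤ Nat.card D * Nat.card B := by
      calc Nat.card D * q ^ 2 = q * (Nat.card D * q) := by ring
        _ ≤ Nat.card B * Nat.card D := h3
        _ = _ := by ring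
    exact Nat.le_of_mul_le_mul_left h4 hDpos
  have h5 : ((Nat.card B : ℝ))⁻¹ ≤ ((q : ℝ) ^ 2)⁻¹ := by
    have h6 : (0 : ℝ) < (q : ℝ) ^ 2 := by positivity
    exact inv_anti₀ h6 (by exact_mod_cast hBq)
  gcongr

end Cfsg.Agent.H120.FR
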